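import Groth.Agent.TriCat.CompactFactor
import Groth.Agent.TriCat.CellResolution
import Mathlib.CategoryTheory.ObjectProperty.Small

/-!
# Compact objects of a compactly generated category are essentially small
-/

set_option autoImplicit false
set_option linter.style.haveILetI false

universe v u

open CategoryTheory Category Limits Pretriangulated ZeroObject Groth.Agent.TriCat

namespace Groth.Agent.BrownFin7

variable {D : Type u} [Category.{v} D]

theorem essentiallySmall_retractClosure (P : ObjectProperty D) [ObjectProperty.EssentiallySmall.{v} P] :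
    ObjectProperty.EssentiallySmall.{v} P.retractClosure := by
  obtain ⟨Q, _, -, hQ⟩ := ObjectProperty.EssentiallySmall.exists_small_le P
  let T := {p : Σ q : Subtype Q, q.1 ⟶ q.1 // ∃ (X : D) (r : Retract X p.1.1), r.r ≫ r.i = p.2}
  let o : T → D := fun t => t.2.choose
  refine ⟨ObjectProperty.ofObj o, inferInstance, fun X hX => ?_⟩
  obtain ⟨Y, hY, ⟨r⟩⟩ := hX
  obtain ⟨Y', hY', ⟨e⟩⟩ := hQ _ hY
  obtain ⟨r'⟩ : Nonempty (Retract X Y') :=
    ⟨{ i := r.i ≫ e.hom, r := e.inv ≫ r.r, retract := by simp }⟩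
  let t : T := ⟨⟨⟨Y', hY'⟩, r'.r ≫ r'.i⟩, X, r', rfl⟩
  obtain ⟨r₀, h₀⟩ := t.2.choose_spec
  change r₀.r ≫ r₀.i = r'.r ≫ r'.i at h₀
  refine ⟨o t, ⟨t⟩, ⟨{ hom := r'.i ≫ r₀.r, inv := r₀.i ≫ r'.r, hom_inv_id := ?_, inv_hom_id := ?_ }⟩⟩
  · rw [assoc, ← assoc r₀.r, h₀, assoc, r'.retract, comp_id, r'.retract]
  · rw [assoc, ← assoc r'.r, ← h₀, assoc, r₀.retract, comp_id, r₀.retract]

variable [Preadditive D] [HasZeroObject D] [HasShift D ℤ] [∀ n : ℤ, (shiftFunctor D n).Additive]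
  [Pretriangulated D]

theorem essentiallySmall_extensionProduct (P Q : ObjectProperty D)
    [ObjectProperty.EssentiallySmall.{v} P] [ObjectProperty.EssentiallySmall.{v} Q] :
    ObjectProperty.EssentiallySmall.{v} (ObjectProperty.extensionProduct P Q) := by
  obtain ⟨P', _, -, hP⟩ := ObjectProperty.EssentiallySmall.exists_small_le P
  obtain ⟨Q', _, -, hQ⟩ := ObjectProperty.EssentiallySmall.exists_small_le Q
  let T := Σ p : Subtype P', Σ q : Subtype Q', q.1 ⟶ p.1⟦(1 : ℤ)⟧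
  let o : T → D := fun t => (distinguished_cocone_triangle₂ t.2.2).choose
  refine ⟨ObjectProperty.ofObj o, inferInstance, fun X hX => ?_⟩
  obtain ⟨Y, Z, f, g, h, hT, hY, hZ⟩ := hX
  obtain ⟨Y', hY', ⟨a⟩⟩ := hP _ hY
  obtain ⟨Z', hZ', ⟨b⟩⟩ := hQ _ hZ
  let t : T := ⟨⟨Y', hY'⟩, ⟨Z', hZ'⟩, b.inv ≫ h ≫ a.hom⟦(1 : ℤ)⟧'⟩
  obtain ⟨f', g', hT'⟩ := (distinguished_cocone_triangle₂ t.2.2).choose_spec
  obtain ⟨c, hc₁, hc₂⟩ := complete_distinguished_triangle_morphism₂ _ _ hT hT' a.hom b.hom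
    (show h ≫ a.hom⟦(1 : ℤ)⟧' = b.hom ≫ (b.inv ≫ h ≫ a.hom⟦(1 : ℤ)⟧') by simp)
  let φ : Triangle.mk f g h ⟶ Triangle.mk f' g' t.2.2 :=
    Triangle.homMk _ _ a.hom c b.hom hc₁ hc₂ (show h ≫ a.hom⟦(1 : ℤ)⟧' = b.hom ≫ (b.inv ≫ h ≫ a.hom⟦(1 : ℤ)⟧') by simp)
  exact ⟨o t, ⟨t⟩, ⟨@asIso _ _ _ _ φ.hom₂
    (isIso₂_of_isIso₁₃ φ hT hT' (inferInstanceAs (IsIso a.hom)) (inferInstanceAs (IsIso b.hom)))⟩⟩

variable {ι : Type v} (E : ι → D)

/-- The stages of the closure. -/
def stage : ℕ → ObjectProperty D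
  | 0 => fun X => IsZero X ∨ ∃ i, ∃ n : ℤ, Nonempty (X ≅ (E i)⟦n⟧)
  | n + 1 => (ObjectProperty.extensionProduct (stage n) (stage n) ⊔ stage n).retractClosure

theorem essentiallySmall_stage (n : ℕ) : ObjectProperty.EssentiallySmall.{v} (stage E n) := by
  induction n with
  | zero =>
    refine ⟨ObjectProperty.ofObj (fun p : Option (ι × ℤ) => p.elim (0 : D) fun q => (E q.1)⟦q.2⟧), inferInstance, ?_⟩
    rintro X (hX | ⟨i, n, ⟨e⟩⟩)
    · exact ⟨_, ⟨none⟩, ⟨hX.iso (isZero_zero D)⟩⟩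
    · exact ⟨_, ⟨some (i, n)⟩, ⟨e⟩⟩
  | succ n ih =>
    haveI := essentiallySmall_extensionProduct (stage E n) (stage E n)
    exact essentiallySmall_retractClosure _

theorem stage_le_succ (n : ℕ) : stage E n ≤ stage E (n + 1) := fun _ h =>
  ObjectProperty.le_retractClosure _ _ (Or.inr h)

theorem stage_mono {n m : ℕ} (h : n ≤ m) : stage E n ≤ stage E m := by
  induction h with
  | refl => exact le_rfl
  | step _ ih => exact ih.trans (stage_le_succ E _)

/-- The closure. -/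
def closure : ObjectProperty D := fun X => ∃ n, stage E n X

theorem stage_shift : ∀ (n : ℕ) (a : ℤ) (X : D), stage E n X → stage E n (X⟦a⟧)
  | 0, a, X, h => by
    rcases h with hX | ⟨i, m, ⟨e⟩⟩
    · exact Or.inl ((shiftFunctor D a).map_isZero hX)
    · exact Or.inr ⟨i, m + a, ⟨(shiftFunctor D a).mapIso e ≪≫ ((shiftFunctorAdd D m a).app (E i)).symm⟩⟩
  | n + 1, a, X, h => by
    obtain ⟨Y, hY, ⟨r⟩⟩ := h
    refine ⟨Y⟦a⟧, ?_, ⟨r.map (shiftFunctor D a)⟩⟩
    rcases hY with ⟨Y₁, Y₂, f, g, h, hT, h₁, h₂⟩ | hY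
    · exact Or.inl ⟨Y₁⟦a⟧, Y₂⟦a⟧, _, _, _, Triangle.shift_distinguished _ hT a, stage_shift n a _ h₁, stage_shift n a _ h₂⟩
    · exact Or.inr (stage_shift n a _ hY)

instance : (closure E).IsStableUnderRetracts where
  of_retract r h := by
    obtain ⟨n, hn⟩ := h
    exact ⟨n + 1, ObjectProperty.prop_retractClosure (Or.inr hn) r⟩

instance : (closure E).IsTriangulated where
  exists_zero := ⟨0, isZero_zero D, 0, Or.inl (isZero_zero D)⟩
  isStableUnderShiftBy a := ⟨fun X ⟨n, hn⟩ => ⟨n, stage_shift E n a X hn⟩⟩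
  toIsTriangulatedClosed₂ := ObjectProperty.IsTriangulatedClosed₂.mk' fun T hT ⟨n, hn⟩ ⟨m, hm⟩ =>
    ⟨max n m + 1, ObjectProperty.le_retractClosure _ _ (Or.inl ⟨T.obj₁, T.obj₃, T.mor₁, T.mor₂, T.mor₃, hT,
      stage_mono E (le_max_left n m) _ hn, stage_mono E (le_max_right n m) _ hm⟩)⟩

theorem le_closure (i : ι) : closure E (E i) :=
  ⟨0, Or.inr ⟨i, 0, ⟨((shiftFunctorZero D ℤ).app (E i)).symm⟩⟩⟩

theorem essentiallySmall_closure : ObjectProperty.EssentiallySmall.{v} (closure E) := by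
  haveI := essentiallySmall_stage E
  refine ObjectProperty.EssentiallySmall.of_le (Q := ⨆ n, stage E n) fun X ⟨n, hn⟩ => ?_
  rw [ObjectProperty.prop_iSup_iff]
  exact ⟨n, hn⟩

variable [IsTriangulated D] [HasCoproducts.{v} D]

/-- The compact objects form an essentially small property. -/
theorem essentiallySmall_compact (hD : CohDer.IsCompactlyGenerated D) :
    ObjectProperty.EssentiallySmall.{v} (fun K : D => CohDer.IsCompactObject K) := by
  obtain ⟨ι, E, hc, hg⟩ := hD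
  rcases isEmpty_or_nonempty ι with hι | hι
  · haveI := essentiallySmall_closure E
    refine ObjectProperty.EssentiallySmall.of_le (Q := closure E) fun X _ => ?_
    exact (closure E).prop_of_isZero (hg X fun i => isEmptyElim i)
  haveI : HasColimitsOfShape (Discrete ℕ) D :=
    hasColimitsOfShape_of_equivalence (Discrete.equivalence (Equiv.ulift.{v, 0} (α := ℕ)))
  haveI := essentiallySmall_closure E
  refine ObjectProperty.EssentiallySmall.of_le (Q := closure E) fun X hX => ?_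
  obtain ⟨F, inc, hL, ⟨κ, a, ⟨e⟩⟩, ht⟩ := exists_cell_resolution (shiftClosure E)
    (countPerfect_shiftClosure (countPerfect_of_compact hc)) (shiftClosure_stable E)
    (isZero_of_generates hg) X
  obtain ⟨n, g, hg'⟩ := IsHocolim.exists_factor hL hX (𝟙 X)
  obtain ⟨s, -, E₁, g₁, h₁, hE₁, hgh⟩ := envFactors_of_cell E hc F.obj
    (fun n => F.map (homOfLE (Nat.le_succ n))) ⟨κ, fun k => (a k).1, fun k => (a k).2, ⟨e⟩⟩
    (fun n => by
      obtain ⟨κ', a', y, z, h⟩ := ht n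
      exact ⟨κ', fun k => (a' k).1, fun k => (a' k).2, y, z, h⟩) n X hX g
  refine ObjectProperty.prop_of_retract _
    { i := g₁, r := h₁ ≫ inc n, retract := by rw [← assoc, hgh, hg'] } ?_
  exact ((ObjectProperty.triangEnvelope_le_iff (finSub E s) (Q := closure E)).2
    fun Y ⟨i, _, h⟩ => h ▸ le_closure E i) _ hE₁

end Groth.Agent.BrownFin7
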