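import Groth.Agent.BrownFin7.Solve
import Groth.Agent.BrownFin7.Small
import Groth.Agent.TriCat.BrownCompact
import Mathlib.Algebra.Category.ModuleCat.Basic
import Mathlib.CategoryTheory.Linear.Yoneda

/-!
# Representing finite-dimensional cohomological functors on compact objects
-/

set_option autoImplicit false
set_option linter.style.haveILetI false
set_option linter.unusedSectionVars false
set_option maxHeartbeats 1000000
set_option backward.isDefEq.respectTransparency false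
set_option backward.isDefEq.respectTransparency.types false

universe w v u

open CategoryTheory Category Limits Opposite Pretriangulated Pretriangulated.Opposite ZeroObject Groth.Agent.TriCat

namespace Groth.Agent.BrownFin7

section Sum

variable {D : Type u} [Category.{v} D] [Preadditive D] [HasZeroObject D] [HasShift D ℤ]
  [∀ n : ℤ, (shiftFunctor D n).Additive] [Pretriangulated D] [HasCoproducts.{v} D]

/-- Finite sums inside a representative family. -/
theorem exists_sum {S : Type v} (o : S → D) (hc : ∀ s, CohDer.IsCompactObject (o s))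
    (hS : ∀ K : D, CohDer.IsCompactObject K → ∃ s, Nonempty (o s ≅ K)) {κ : Type*} (s : κ → S) (J : Finset κ) :
    ∃ (r : S) (e : ∀ j, o (s j) ⟶ o r), ∀ (X : D) (f : ∀ j, o (s j) ⟶ X), ∃! F : o r ⟶ X, ∀ j ∈ J, e j ≫ F = f j := by
  classical
  induction J using Finset.induction_on with
  | empty =>
    obtain ⟨r, ⟨i⟩⟩ := hS 0 (isCompactObject_of_isZero (isZero_zero D))
    refine ⟨r, fun _ => 0, fun X f => ⟨0, fun j hj => absurd hj (Finset.notMem_empty j), fun F _ => ?_⟩⟩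
    exact ((isZero_zero D).of_iso i).eq_of_src _ _
  | insert k J hk ih =>
    obtain ⟨r, e, he⟩ := ih
    obtain ⟨r', ⟨i⟩⟩ := hS (o (s k) ⊞ o r) (ObjectProperty.ext_of_isTriangulatedClosed₂
      (fun K : D => CohDer.IsCompactObject K) _ (binaryBiproductTriangle_distinguished _ _) (hc _) (hc _))
    refine ⟨r', fun j => if h : j = k then eqToHom (by rw [h]) ≫ biprod.inl ≫ i.inv else e j ≫ biprod.inr ≫ i.inv,
      fun X f => ?_⟩
    obtain ⟨F, hF, hu⟩ := he X f
    refine ⟨i.hom ≫ biprod.desc (f k) F, fun j hj => ?_, fun G hG => ?_⟩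
    · rcases Finset.mem_insert.1 hj with rfl | hj
      · simp
      · have hne : j ≠ k := fun h => hk (h ▸ hj)
        simp [hne, hF j hj]
    · rw [← cancel_epi i.inv, Iso.inv_hom_id_assoc]
      refine biprod.hom_ext' _ _ ?_ ?_
      · have h := hG k (Finset.mem_insert_self k J)
        simp only [dif_pos, eqToHom_refl, id_comp, assoc] at h
        rw [biprod.inl_desc]
        exact h
      · rw [biprod.inr_desc]
        refine hu _ fun j hj => ?_
        have hne : j ≠ k := fun h => hk (h ▸ hj)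
        have h := hG j (Finset.mem_insert_of_mem hj)
        simp only [dif_neg hne, assoc] at h
        exact h

end Sum

variable {k : Type w} [Field k] {D : Type u} [Category.{v} D] [Preadditive D] [HasZeroObject D] [HasShift D ℤ]
  [∀ n : ℤ, (shiftFunctor D n).Additive] [Pretriangulated D] [HasCoproducts.{v} D]

local notation "Cp" D' => ObjectProperty.FullSubcategory (fun K : D' => CohDer.IsCompactObject K)

variable (H : (Cp D)ᵒᵖ ⥤ ModuleCat.{v} k) {S : Type v} (o : S → Cp D)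

/-- The value of `H` at a compact object. -/
abbrev val (K : Cp D) : Type v := H.obj (op K)

/-- The functoriality of `H`. -/
noncomputable def hm {K L : Cp D} (a : K.obj ⟶ L.obj) : val H L →ₗ[k] val H K :=
  (H.map (ObjectProperty.homMk a).op).hom

theorem hm_comp {K L M : Cp D} (a : K.obj ⟶ L.obj) (b : L.obj ⟶ M.obj) (z : val H M) :
    hm H (a ≫ b) z = hm H a (hm H b z) := by
  have h : (ObjectProperty.homMk (a ≫ b) : K ⟶ M) = ObjectProperty.homMk a ≫ ObjectProperty.homMk b := rfl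
  rw [hm, h, op_comp, H.map_comp]
  rfl

theorem hm_id (K : Cp D) (z : val H K) : hm H (𝟙 K.obj) z = z := by
  have h : (ObjectProperty.homMk (𝟙 K.obj) : K ⟶ K) = 𝟙 K := rfl
  rw [hm, h, op_id, H.map_id]
  rfl

variable [H.Additive]

theorem hm_add {K L : Cp D} (a b : K.obj ⟶ L.obj) (z : val H L) : hm H (a + b) z = hm H a z + hm H b z := by
  have h : (ObjectProperty.homMk (a + b) : K ⟶ L) = ObjectProperty.homMk a + ObjectProperty.homMk b := rfl
  rw [hm, h, op_add, H.map_add]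
  rfl

theorem hm_sub {K L : Cp D} (a b : K.obj ⟶ L.obj) (z : val H L) : hm H (a - b) z = hm H a z - hm H b z :=
  eq_sub_of_add_eq (by rw [← hm_add, sub_add_cancel])

theorem hm_zero {K L : Cp D} (z : val H L) : hm H (0 : K.obj ⟶ L.obj) z = 0 := by
  have := hm_sub H (0 : K.obj ⟶ L.obj) 0 z
  rwa [sub_self, sub_self] at this

/-- Compatible families. -/
def extSub (A : D) : AddSubgroup (∀ s : S, ((o s).obj ⟶ A) → val H (o s)) where
  carrier := {x | ∀ (s t : S) (a : (o s).obj ⟶ (o t).obj) (φ : (o t).obj ⟶ A), x s (a ≫ φ) = hm H a (x t φ)}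
  add_mem' := fun {x y} hx hy s t a φ => by
    show x s _ + y s _ = hm H a (x t φ + y t φ)
    rw [map_add, hx, hy]
  zero_mem' := fun s t a φ => (map_zero _).symm
  neg_mem' := fun {x} hx s t a φ => by
    show -x s _ = hm H a (-x t φ)
    rw [map_neg, hx]

omit [H.Additive] in
theorem mem_comp {A B : D} (u : A ⟶ B) {x : ∀ s : S, ((o s).obj ⟶ B) → val H (o s)} (hx : x ∈ extSub H o B) :
    (fun s φ => x s (φ ≫ u)) ∈ extSub H o A := fun s t a φ => by
  show x s ((a ≫ φ) ≫ u) = _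
  rw [assoc]
  exact hx s t a (φ ≫ u)

/-- The extension of `H` to all objects. -/
def ext : Dᵒᵖ ⥤ AddCommGrpCat.{v} where
  obj A := AddCommGrpCat.of (extSub H o A.unop)
  map {A B} u := AddCommGrpCat.ofHom
    { toFun := fun x => ⟨fun s φ => x.1 s (φ ≫ u.unop), mem_comp H o u.unop x.2⟩
      map_zero' := rfl
      map_add' := fun _ _ => rfl }
  map_id A := by
    refine AddCommGrpCat.ext fun x => ?_
    refine Subtype.ext (funext fun s => funext fun φ => ?_)
    show x.1 s (φ ≫ 𝟙 _) = x.1 s φ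
    rw [comp_id]
  map_comp {A B C} f g := by
    refine AddCommGrpCat.ext fun x => ?_
    refine Subtype.ext (funext fun s => funext fun φ => ?_)
    show x.1 s (φ ≫ g.unop ≫ f.unop) = x.1 s ((φ ≫ g.unop) ≫ f.unop)
    rw [assoc]

variable (hS : ∀ K : D, CohDer.IsCompactObject K → ∃ s, Nonempty ((o s).obj ≅ K))
include hS

/-- Compatible families are additive. -/
theorem apply_add {A : D} {x : ∀ s : S, ((o s).obj ⟶ A) → val H (o s)} (hx : x ∈ extSub H o A) (s : S)
    (φ ψ : (o s).obj ⟶ A) : x s (φ + ψ) = x s φ + x s ψ := by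
  classical
  obtain ⟨r, e, he⟩ := exists_sum (fun s => (o s).obj) (fun s => (o s).2) hS (fun _ : Bool => s) Finset.univ
  obtain ⟨F, hF, -⟩ := he A fun b => if b then φ else ψ
  have h₁ := hF true (Finset.mem_univ _)
  have h₂ := hF false (Finset.mem_univ _)
  simp only [if_true, Bool.false_eq_true, if_false] at h₁ h₂
  rw [← h₁, ← h₂, ← Preadditive.add_comp, hx, hx, hx, hm_add]

theorem apply_zero {A : D} {x : ∀ s : S, ((o s).obj ⟶ A) → val H (o s)} (hx : x ∈ extSub H o A) (s : S) :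
    x s (0 : (o s).obj ⟶ A) = 0 := by
  have := apply_add H o hS hx s 0 0
  rw [add_zero] at this
  exact left_eq_add.1 this

/-- Compatible families as homomorphisms. -/
noncomputable def applyHom {A : D} (x : extSub H o A) (s : S) : ((o s).obj ⟶ A) →+ val H (o s) :=
  AddMonoidHom.mk' (x.1 s) (apply_add H o hS x.2 s)

theorem preservesZero : (ext H o).PreservesZeroMorphisms where
  map_zero A B := by
    refine AddCommGrpCat.ext fun x => ?_
    refine Subtype.ext (funext fun s => funext fun φ => ?_)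
    show x.1 s (φ ≫ 0) = 0
    rw [comp_zero, apply_zero H o hS x.2]

theorem preservesProducts (τ : Type v) : PreservesLimitsOfShape (Discrete τ) (ext H o) := by
  suffices h : ∀ f : τ → Dᵒᵖ, PreservesLimit (Discrete.functor f) (ext H o) by
    exact preservesLimitsOfShape_of_discrete _
  intro f
  let X : τ → D := fun i => (f i).unop
  refine preservesLimit_of_preserves_limit_cone (Cofan.IsColimit.op (coproductIsCoproduct X)) ?_
  refine isLimitOfReflects (forget AddCommGrpCat.{v}) ?_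
  classical
  refine ((Types.isLimit_iff _).2 fun y hy => ?_).some
  let x : ∀ i, extSub H o (X i) := fun i => y ⟨i⟩
  let z : ∀ s, ((o s).obj ⟶ ∐ X) → val H (o s) := fun s φ =>
    DirectSum.toAddMonoid (fun i => applyHom H o hS (x i) s) (Function.surjInv ((o s).2 τ X).2 φ)
  have hinv : ∀ s (a : DirectSum τ fun i => (o s).obj ⟶ X i),
      z s (CohDer.homSumToHomCoprod (o s).obj X a) = DirectSum.toAddMonoid (fun i => applyHom H o hS (x i) s) a :=
    fun s a => congrArg (fun q => DirectSum.toAddMonoid (fun i => applyHom H o hS (x i) s) q)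
      (((o s).2 τ X).1 (Function.surjInv_eq ((o s).2 τ X).2 (CohDer.homSumToHomCoprod (o s).obj X a)))
  have hof : ∀ s i (b : (o s).obj ⟶ X i),
      CohDer.homSumToHomCoprod (o s).obj X (DirectSum.of (fun i => (o s).obj ⟶ X i) i b) = b ≫ Sigma.ι X i :=
    fun s i b => by simp [CohDer.homSumToHomCoprod, DirectSum.toAddMonoid_of]; rfl
  have hι : ∀ s i (b : (o s).obj ⟶ X i), z s (b ≫ Sigma.ι X i) = (x i).1 s b := fun s i b => by
    rw [← hof, hinv, DirectSum.toAddMonoid_of]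
    rfl
  have hzadd : ∀ s φ ψ, z s (φ + ψ) = z s φ + z s ψ := fun s φ ψ => by
    obtain ⟨a, rfl⟩ := ((o s).2 τ X).2 φ
    obtain ⟨b, rfl⟩ := ((o s).2 τ X).2 ψ
    rw [← map_add, hinv, hinv, hinv, map_add]
  have hz : z ∈ extSub H o (∐ X) := fun s t a φ => by
    obtain ⟨b, rfl⟩ := ((o t).2 τ X).2 φ
    induction b using DirectSum.induction_on with
    | zero => rw [map_zero, comp_zero, ← map_zero (CohDer.homSumToHomCoprod (o s).obj X), hinv, map_zero,
        ← map_zero (CohDer.homSumToHomCoprod (o t).obj X), hinv, map_zero, map_zero]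
    | of i c => rw [hof, ← assoc, hι, hι]; exact (x i).2 s t a c
    | add p q hp hq => rw [map_add, Preadditive.comp_add, hzadd, hp, hq, hzadd, map_add]
  refine ⟨(⟨z, hz⟩ : extSub H o (∐ X)), fun j => ?_, fun w hw => ?_⟩
  · refine Subtype.ext (funext fun s => funext fun b => ?_)
    exact hι s j.as b
  · refine Subtype.ext (funext fun s => funext fun φ => ?_)
    obtain ⟨a, rfl⟩ := ((o s).2 τ X).2 φ
    show (w : extSub H o (∐ X)).1 s _ = z s _
    induction a using DirectSum.induction_on with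
    | zero => rw [map_zero, apply_zero H o hS (w : extSub H o (∐ X)).2, apply_zero H o hS hz]
    | of i c => rw [hof, hι]; exact congrArg (fun q : extSub H o (X i) => q.1 s c) (hw ⟨i⟩)
    | add p q hp hq =>
      rw [map_add, apply_add H o hS (w : extSub H o (∐ X)).2, hp, hq, hzadd]

variable [∀ K, Module.Finite k (H.obj K)]
variable (hcoh : ∀ T ∈ distTriang D, ∀ (h₁ : CohDer.IsCompactObject T.obj₁)
      (h₂ : CohDer.IsCompactObject T.obj₂) (h₃ : CohDer.IsCompactObject T.obj₃) (y : val H ⟨T.obj₂, h₂⟩),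
      hm H (K := ⟨T.obj₁, h₁⟩) (L := ⟨T.obj₂, h₂⟩) T.mor₁ y = 0 →
        ∃ z : val H ⟨T.obj₃, h₃⟩, hm H (K := ⟨T.obj₂, h₂⟩) (L := ⟨T.obj₃, h₃⟩) T.mor₂ z = y)
include hcoh

/-- A finite system along a distinguished triangle. -/
theorem exists_finite {T : Triangle D} (hT : T ∈ distTriang D)
    {x : ∀ s : S, ((o s).obj ⟶ T.obj₂) → val H (o s)} (hx : x ∈ extSub H o T.obj₂)
    (hx₀ : ∀ s φ, x s (φ ≫ T.mor₁) = 0) (r : S) (Φ : (o r).obj ⟶ T.obj₃) {κ : Type*} (J : Finset κ)
    (s : κ → S) (d : ∀ j, (o (s j)).obj ⟶ (o r).obj) (ψ : ∀ j, (o (s j)).obj ⟶ T.obj₂)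
    (hd : ∀ j ∈ J, d j ≫ Φ = ψ j ≫ T.mor₂) :
    ∃ y : val H (o r), ∀ j ∈ J, hm H (d j) y = x (s j) (ψ j) := by
  obtain ⟨m, e, he⟩ := exists_sum (fun s => (o s).obj) (fun s => (o s).2) hS s J
  obtain ⟨d', hd', -⟩ := he _ d
  obtain ⟨ψ', hψ', -⟩ := he _ ψ
  have hc : d' ≫ Φ = ψ' ≫ T.mor₂ := by
    obtain ⟨F, -, hu⟩ := he _ fun j => ψ j ≫ T.mor₂
    refine (hu (d' ≫ Φ) fun j hj => ?_).trans (hu (ψ' ≫ T.mor₂) fun j hj => ?_).symm
    · rw [← assoc, hd' j hj, hd j hj]
    · rw [← assoc, hψ' j hj]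
  obtain ⟨Z, i, δ, hZ⟩ := distinguished_cocone_triangle₁ d'
  have hZc : CohDer.IsCompactObject Z := ObjectProperty.ext_of_isTriangulatedClosed₁
    (fun K : D => CohDer.IsCompactObject K) _ hZ (o m).2 (o r).2
  obtain ⟨z, hz'⟩ := hS Z hZc
  obtain ⟨ι'⟩ := hz'
  obtain ⟨χ, hχ⟩ := Triangle.coyoneda_exact₂ T hT (i ≫ ψ') (by
    rw [assoc, ← hc, ← assoc, show i ≫ d' = 0 from comp_distTriang_mor_zero₁₂ _ hZ, zero_comp])
  have h0 : hm H (K := ⟨Z, hZc⟩) i (x m ψ') = 0 := by
    have h1 := hx z m (ι'.hom ≫ i) ψ'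
    rw [assoc, hχ, ← assoc, hx₀, hm_comp H (L := ⟨Z, hZc⟩)] at h1
    have h2 := congrArg (hm H (K := ⟨Z, hZc⟩) (L := o z) ι'.inv) h1.symm
    rw [← hm_comp, Iso.inv_hom_id, hm_id, map_zero] at h2
    exact h2
  obtain ⟨y, hy⟩ := hcoh _ hZ hZc (o m).2 (o r).2 (x m ψ') h0
  refine ⟨y, fun j hj => ?_⟩
  rw [← hd' j hj, ← hψ' j hj, hm_comp, hx]
  exact congrArg _ hy

theorem exists_exact_solution {T : Triangle D} (hT : T ∈ distTriang D)
    {x : ∀ s : S, ((o s).obj ⟶ T.obj₂) → val H (o s)} (hx : x ∈ extSub H o T.obj₂)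
    (hx₀ : ∀ s φ, x s (φ ≫ T.mor₁) = 0) :
    ∃ y ∈ extSub H o T.obj₃, ∀ s φ, y s (φ ≫ T.mor₂) = x s φ := by
  classical
  let I := Σ s : S, (o s).obj ⟶ T.obj₃
  let V : I → Type v := fun i => val H (o i.1)
  let M₁ := Σ (s : S) (t : S) (_ : (o s).obj ⟶ (o t).obj) (_ : (o t).obj ⟶ T.obj₃), Module.Dual k (val H (o s))
  let M₂ := Σ (s : S) (_ : (o s).obj ⟶ T.obj₂), Module.Dual k (val H (o s))
  let sgl : ∀ (s : S) (φ : (o s).obj ⟶ T.obj₃), Module.Dual k (val H (o s)) → (Π₀ i : I, Module.Dual k (V i)) :=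
    fun s φ μ => DFinsupp.single (β := fun i : I => Module.Dual k (V i)) ⟨s, φ⟩ μ
  let L : M₁ ⊕ M₂ → (Π₀ i : I, Module.Dual k (V i)) := Sum.elim
    (fun m => sgl m.1 (m.2.2.1 ≫ m.2.2.2.1) m.2.2.2.2 - sgl m.2.1 m.2.2.2.1 (m.2.2.2.2.comp (hm H m.2.2.1)))
    (fun m => sgl m.1 (m.2.1 ≫ T.mor₂) m.2.2)
  let c : M₁ ⊕ M₂ → k := Sum.elim (fun _ => 0) (fun m => m.2.2 (x m.1 m.2.1))
  have hev : ∀ (y : ∀ i, V i) s φ μ, ev y (sgl s φ μ) = μ (y ⟨s, φ⟩) := fun y s φ μ => ev_single (I := I) (V := V) y ⟨s, φ⟩ μ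
  obtain ⟨y, hy⟩ := exists_solution_aux (ev : (∀ i, V i) → _) ev_surjective L c fun F => by
    let idx : M₁ ⊕ M₂ → Finset I := Sum.elim
      (fun m => {⟨m.1, m.2.2.1 ≫ m.2.2.2.1⟩, ⟨m.2.1, m.2.2.2.1⟩}) (fun m => {⟨m.1, m.2.1 ≫ T.mor₂⟩})
    let J := F.biUnion idx
    obtain ⟨r, e, he⟩ := exists_sum (fun s => (o s).obj) (fun s => (o s).2) hS (fun i : I => i.1) J
    obtain ⟨Φ, hΦ, -⟩ := he T.obj₃ fun i => i.2
    let sd : M₁ ⊕ M₂ → S := Sum.elim (fun m => m.1) (fun m => m.1)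
    let d : ∀ m, (o (sd m)).obj ⟶ (o r).obj := fun m => match m with
      | .inl m => e (⟨m.1, m.2.2.1 ≫ m.2.2.2.1⟩ : I) - m.2.2.1 ≫ (e (Sigma.mk m.2.1 m.2.2.2.1) : (o m.2.1).obj ⟶ (o r).obj)
      | .inr m => e (⟨m.1, m.2.1 ≫ T.mor₂⟩ : I)
    let ψ : ∀ m, (o (sd m)).obj ⟶ T.obj₂ := fun m => match m with
      | .inl _ => 0
      | .inr m => m.2.1
    have hJ : ∀ m ∈ F, ∀ i ∈ idx m, e i ≫ Φ = i.2 := fun m hm i hi => hΦ i (Finset.mem_biUnion.2 ⟨m, hm, hi⟩)
    obtain ⟨y₀, hy₀⟩ := exists_finite H o hS hcoh hT hx hx₀ r Φ F sd d ψ fun m hm => by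
      rcases m with ⟨s, t, a, φ, μ⟩ | m
      · show (e (Sigma.mk s (a ≫ φ)) - a ≫ (e (Sigma.mk t φ) : (o t).obj ⟶ (o r).obj)) ≫ Φ =
          (0 : (o s).obj ⟶ T.obj₂) ≫ T.mor₂
        rw [Preadditive.sub_comp, assoc, hJ _ hm ⟨_, _⟩ (Finset.mem_insert_self _ _),
          hJ _ hm ⟨_, _⟩ (Finset.mem_insert_of_mem (Finset.mem_singleton_self _)), zero_comp, sub_self]
      · exact hJ _ hm ⟨_, _⟩ (Finset.mem_singleton_self _)
    refine ⟨fun i => hm H (e i) y₀, fun m hm => ?_⟩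
    rcases m with ⟨s, t, a, φ, μ⟩ | ⟨s, φ, μ⟩
    · show ev _ (sgl s _ μ - sgl t φ _) = 0
      rw [ev_sub, hev, hev, LinearMap.comp_apply, ← map_sub, ← hm_comp, ← hm_sub]
      refine (congrArg μ ((hy₀ _ hm).trans ?_)).trans (map_zero μ)
      exact apply_zero H o hS hx s
    · show ev _ (sgl s _ μ) = μ (x s φ)
      rw [hev]
      exact congrArg μ (hy₀ _ hm)
  refine ⟨fun s φ => y ⟨s, φ⟩, fun s t a φ => ?_, fun s φ => ?_⟩
  · refine (Module.forall_dual_apply_eq_zero_iff k _).1 (fun μ => ?_) |> sub_eq_zero.1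
    have h := hy (.inl ⟨s, t, a, φ, μ⟩)
    change ev y (sgl s _ μ - sgl t φ _) = 0 at h
    rw [ev_sub, hev, hev, LinearMap.comp_apply, ← map_sub] at h
    exact h
  · refine (Module.forall_dual_apply_eq_zero_iff k _).1 (fun μ => ?_) |> sub_eq_zero.1
    have h := hy (.inr ⟨s, φ, μ⟩)
    change ev y (sgl s _ μ) = μ (x s φ) at h
    rw [hev] at h
    rw [map_sub, h, sub_self]

theorem isHomological : (ext H o).IsHomological := by
  haveI := preservesZero H o hS
  constructor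
  intro T hT
  rw [ShortComplex.ab_exact_iff]
  intro x hx
  have hx' : ∀ s φ, (x : extSub H o T.obj₂.unop).1 s (φ ≫ T.mor₂.unop) = 0 := fun s φ =>
    congrArg (fun q : extSub H o T.obj₃.unop => q.1 s φ) hx
  obtain ⟨y, hy, hyx⟩ := exists_exact_solution H o hS hcoh (unop_distinguished T hT) (x : extSub H o T.obj₂.unop).2 hx'
  exact ⟨(⟨y, hy⟩ : extSub H o T.obj₁.unop), Subtype.ext (funext fun s => funext fun φ => hyx s φ)⟩

omit hS hcoh [∀ K, Module.Finite k (H.obj K)]

variable [Linear k D]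

/-- A finite-dimensional cohomological functor on compact objects is representable. -/
theorem exists_iso [IsTriangulated D] (hD : CohDer.IsCompactlyGenerated D)
    [∀ K, Module.Finite k (H.obj K)]
    (hlin : ∀ (K L : Cp D) (r : k) (f : K ⟶ L), H.map (r • f).op = r • H.map f.op)
    (hcoh : ∀ T ∈ distTriang D, ∀ (h₁ : CohDer.IsCompactObject T.obj₁)
      (h₂ : CohDer.IsCompactObject T.obj₂) (h₃ : CohDer.IsCompactObject T.obj₃) (y : val H ⟨T.obj₂, h₂⟩),
      hm H (K := ⟨T.obj₁, h₁⟩) (L := ⟨T.obj₂, h₂⟩) T.mor₁ y = 0 →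
        ∃ z : val H ⟨T.obj₃, h₃⟩, hm H (K := ⟨T.obj₂, h₂⟩) (L := ⟨T.obj₃, h₃⟩) T.mor₂ z = y) :
    ∃ Y : D, Nonempty (H ≅ (ObjectProperty.ι _).op ⋙ (linearYoneda k D).obj Y) := by
  haveI := essentiallySmall_compact hD
  obtain ⟨Q, _, hQc, hQ⟩ := ObjectProperty.EssentiallySmall.exists_small_le (fun K : D => CohDer.IsCompactObject K)
  let S := Shrink.{v} (Subtype Q)
  let o : S → Cp D := fun s => ⟨((equivShrink (Subtype Q)).symm s).1, hQc _ ((equivShrink (Subtype Q)).symm s).2⟩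
  have hS : ∀ K : D, CohDer.IsCompactObject K → ∃ s, Nonempty ((o s).obj ≅ K) := fun K hK => by
    obtain ⟨K', hK', ⟨e⟩⟩ := hQ _ hK
    exact ⟨equivShrink _ ⟨K', hK'⟩, ⟨eqToIso (by simp [o]) ≪≫ e.symm⟩⟩
  haveI := isHomological H o hS hcoh
  haveI := fun τ => preservesProducts H o hS τ
  haveI := isRepresentable_of_isCompactlyGenerated hD (ext H o)
  let R := (ext H o ⋙ forget AddCommGrpCat.{v}).representableBy
  refine ⟨(ext H o ⋙ forget AddCommGrpCat.{v}).reprX, ?_⟩
  let Y := (ext H o ⋙ forget AddCommGrpCat.{v}).reprX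
  let u : extSub H o Y := R.homEquiv (𝟙 Y)
  have hu : ∀ (A : D) (g : A ⟶ Y) (s : S) (φ : (o s).obj ⟶ A),
      (R.homEquiv g : extSub H o A).1 s φ = u.1 s (φ ≫ g) := fun A g s φ => by
    rw [R.homEquiv_eq g]
    rfl
  have hbij : ∀ t : S, Function.Bijective fun g : (o t).obj ⟶ Y => u.1 t g := fun t => by
    refine ⟨fun g g' h => ?_, fun z => ?_⟩
    · refine R.homEquiv.injective (Subtype.ext (funext fun s => funext fun φ => ?_))
      exact (hu _ g s φ).trans ((u.2 s t φ g).trans ((congrArg (hm H φ) h).trans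
        ((u.2 s t φ g').symm.trans (hu _ g' s φ).symm)))
    · let q : extSub H o (o t).obj := ⟨fun s φ => hm H φ z, fun s s' a φ => hm_comp H a φ z⟩
      obtain ⟨g, hg⟩ := R.homEquiv.surjective q
      refine ⟨g, ?_⟩
      have h := hu _ g t (𝟙 _)
      rw [id_comp, hg] at h
      show u.1 t g = z
      rw [← h]
      exact hm_id H (o t) z
  choose s i using fun K : Cp D => hS K.obj K.2
  let θ : ∀ K : Cp D, (K.obj ⟶ Y) → val H K := fun K g => hm H ((i K).some.inv) (u.1 (s K) ((i K).some.hom ≫ g))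
  have hnat : ∀ (K L : Cp D) (a : K.obj ⟶ L.obj) (g : L.obj ⟶ Y), θ K (a ≫ g) = hm H a (θ L g) := fun K L a g => by
    show hm H _ (u.1 (s K) _) = hm H a (hm H _ (u.1 (s L) _))
    rw [← hm_comp, show (i K).some.hom ≫ a ≫ g =
      ((i K).some.hom ≫ a ≫ (i L).some.inv) ≫ (i L).some.hom ≫ g by simp, u.2, ← hm_comp,
      Iso.inv_hom_id_assoc]
  have hadd : ∀ (K : Cp D) (g g' : K.obj ⟶ Y), θ K (g + g') = θ K g + θ K g' := fun K g g' => by
    show hm H _ _ = hm H _ _ + hm H _ _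
    rw [Preadditive.comp_add, apply_add H o hS u.2, map_add]
  have hsmul : ∀ (K : Cp D) (r : k) (g : K.obj ⟶ Y), θ K (r • g) = r • θ K g := fun K r g => by
    rw [show r • g = (r • 𝟙 K.obj) ≫ g by rw [Linear.smul_comp, id_comp], hnat, hm,
      show (ObjectProperty.homMk (r • 𝟙 K.obj) : K ⟶ K) = r • 𝟙 K from rfl, hlin, op_id, H.map_id]
    rfl
  have hθ : ∀ K : Cp D, Function.Bijective (θ K) := fun K => by
    constructor
    · intro g g' h
      have h' := congrArg (hm H (i K).some.hom) h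
      simp only [θ, ← hm_comp, Iso.hom_inv_id, hm_id] at h'
      exact (cancel_epi (i K).some.hom).1 ((hbij _).1 h')
    · intro z
      obtain ⟨g, hg⟩ := (hbij (s K)).2 (hm H (i K).some.hom z)
      refine ⟨(i K).some.inv ≫ g, ?_⟩
      show hm H _ (u.1 _ _) = z
      rw [Iso.hom_inv_id_assoc, show u.1 (s K) g = hm H (i K).some.hom z from hg, ← hm_comp, Iso.inv_hom_id, hm_id]
  let lin : ∀ K : Cp D, (K.obj ⟶ Y) ≃ₗ[k] val H K := fun K =>
    LinearEquiv.ofBijective { toFun := θ K, map_add' := hadd K, map_smul' := hsmul K } (hθ K)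
  refine ⟨(NatIso.ofComponents (fun K => (lin K.unop).toModuleIso) fun {K L} f => ?_).symm⟩
  ext g
  exact hnat L.unop K.unop f.unop.hom g

end Groth.Agent.BrownFin7
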