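import Mathlib.LinearAlgebra.Dual.Lemmas
import Mathlib.LinearAlgebra.DFinsupp
import Mathlib.LinearAlgebra.Basis.VectorSpace
import Mathlib.LinearAlgebra.Finsupp.LinearCombination

/-!
# Linear systems in a product of finite-dimensional vector spaces
-/

set_option autoImplicit false

universe w v u m t

open Module

namespace Groth.Agent.BrownFin7

variable {k : Type w} [Field k] {I : Type u} [DecidableEq I] {V : I → Type v}
  [∀ i, AddCommGroup (V i)] [∀ i, Module k (V i)]

section Aux

variable {W : I → Type t} [∀ i, AddCommMonoid (W i)] [∀ i, Module k (W i)]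

/-- The sum of a family of functionals. -/
noncomputable def sumFun (f : ∀ i, W i →ₗ[k] k) : (Π₀ i, W i) →ₗ[k] k :=
  DFinsupp.lsum k (M := W) (N := k) f

theorem sumFun_single (f : ∀ i, W i →ₗ[k] k) (i : I) (w : W i) : sumFun f (DFinsupp.single i w) = f i w :=
  DFinsupp.lsum_single (M := W) (N := k) k f i w

end Aux

/-- Evaluation of a finitely supported family of functionals. -/
noncomputable def ev (y : ∀ i, V i) : (Π₀ i, Dual k (V i)) →ₗ[k] k :=
  sumFun (W := fun i => Dual k (V i)) fun i => Module.Dual.eval k (V i) (y i)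

@[simp]
theorem ev_single (y : ∀ i, V i) (i : I) (μ : Dual k (V i)) : ev y (DFinsupp.single i μ) = μ (y i) :=
  (sumFun_single (W := fun i => Dual k (V i)) _ i μ).trans rfl

/-- A system in a dual space. -/
theorem exists_solution_aux {W : Type t} [AddCommGroup W] [Module k W] {Y : Type u} (e : Y → Dual k W)
    (he : Function.Surjective e) {M : Type m} (L : M → W) (c : M → k)
    (h : ∀ F : Finset M, ∃ y : Y, ∀ m ∈ F, e y (L m) = c m) :
    ∃ y : Y, ∀ m, e y (L m) = c m := by
  classical
  let Λ := Finsupp.linearCombination k L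
  let C : Dual k (M →₀ k) := Finsupp.linearCombination k c
  have hC : C ∈ (LinearMap.ker Λ).dualAnnihilator := (Submodule.mem_dualAnnihilator C).2 fun l hl => by
    obtain ⟨y, hy⟩ := h l.support
    have e' : e y (Λ l) = C l := by
      simp only [Λ, C, Finsupp.linearCombination_apply, Finsupp.sum, map_sum, map_smul]
      exact Finset.sum_congr rfl fun m hm => by rw [hy m hm]
    rw [← e', LinearMap.mem_ker.1 hl, map_zero]
  obtain ⟨g, hg⟩ := LinearMap.mem_range.1 ((LinearMap.range_dualMap_eq_dualAnnihilator_ker Λ).ge hC)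
  obtain ⟨y, rfl⟩ := he g
  refine ⟨y, fun m => ?_⟩
  have h1 := LinearMap.congr_fun hg (Finsupp.single m 1)
  simpa [Λ, C] using h1

theorem ev_surjective [∀ i, FiniteDimensional k (V i)] :
    Function.Surjective (ev : (∀ i, V i) → Dual k (Π₀ i, Dual k (V i))) := fun g => by
  refine ⟨fun i => (evalEquiv k (V i)).symm (g.comp (DFinsupp.lsingle (R := k) (M := fun i => Dual k (V i)) i)), ?_⟩
  refine DFinsupp.lhom_ext fun i μ => ?_
  rw [ev_single, apply_evalEquiv_symm_apply]
  rfl

theorem ev_sub (y : ∀ i, V i) (a b : Π₀ i, Dual k (V i)) : ev y (a - b) = ev y a - ev y b := map_sub (ev y) a b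

end Groth.Agent.BrownFin7
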